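import Cfsg.Agent.HZ.L.Bas
import Cfsg.Agent.HZ.L.Hz.Star
import Cfsg.Agent.BZ.Lab.A
import Cfsg.Agent.Blocks.OrbitSum

/-!
# HZ / L: a fixed constituent of height zero (helper83)

* `exists_fix` : if `uf 2 η f` is a unit and `σ` fixes `f`, then `f` has a fixed constituent of height zero;
* `sm_tc`, `rs_tc'` : the truncation; `boxHz`.
-/

set_option autoImplicit false
set_option linter.unusedSectionVars false

namespace Cfsg.Agent.HZ.L.Hz

open Cfsg Cfsg.Agent.DL Cfsg.Agent.DL.Uni Cfsg.Agent.KZ.Lie Cfsg.Agent.HZ.Gen Cfsg.Agent.ODD.Red Cfsg.Agent.Characters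
  Cfsg.Agent.Characters.Core Cfsg.Agent.BZ.Lab Cfsg.Agent.Blocks Cfsg.Agent.Blocks.Local

section Grp

open Cfsg.Agent.OddOrderCharacters

variable {H : Type} [Group H] [Fintype H] {M : Ideal AlgInt} {χ η f : H → ℂ} {l r n : ℕ}

/-- the Galois action on the irreducible characters -/
noncomputable def act (H : Type) [Group H] [Finite H] : (ℂ ≃+* ℂ) →* Equiv.Perm (IrrCharacter H) :=
  MonoidHom.toHomPerm
    { toFun := fun σ ψ => ⟨fun g => σ ((ψ : H → ℂ) g), GaloisIrr.isIrr_map σ ψ.2⟩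
      map_one' := rfl
      map_mul' := fun _ _ => rfl }

theorem act_apply (σ : ℂ ≃+* ℂ) (ψ : IrrCharacter H) (g : H) : (act H σ ψ : H → ℂ) g = σ ((ψ : H → ℂ) g) := rfl

theorem uf_act {τ : ℂ ≃+* ℂ} (hτ : Two τ) (η : H → ℂ) (ψ : IrrCharacter H) : uf 2 η (act H τ ψ) = uf 2 η ψ := by
  classical
  refine Finset.sum_congr rfl fun y hy => ?_
  have h := GaloisBasic.map_apply (τ : ℂ →+* ℂ) (m := 1) (n := orderOf y) (fun z hz => by
    rw [pow_one]
    exact hτ _ z (Nat.odd_iff.2 (Nat.two_dvd_ne_zero.1 (Finset.mem_filter.1 hy).2)) hz) (isIrr_isCharacter ψ.2) (orderOf_pos y).ne'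
      (pow_orderOf_eq_one y)
  rw [pow_one] at h
  exact congrArg (fun z => z * _ / _) h

theorem uf_sum [Fintype (IrrCharacter H)] (hf : IsClassFunction H f) (η : H → ℂ) :
    uf l η f = ∑ ψ : IrrCharacter H, classInner f ψ * uf l η ψ := by
  simp only [uf, Finset.mul_sum]
  rw [Finset.sum_comm]
  refine Finset.sum_congr rfl fun y _ => ?_
  rw [congrFun (classFunction_eq_sum hf) y, Finset.sum_apply, Finset.sum_mul, Finset.sum_div]
  exact Finset.sum_congr rfl fun ψ _ => by rw [Pi.smul_apply, smul_eq_mul, mul_assoc, mul_div_assoc]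

/-- **a fixed constituent of height zero** -/
theorem exists_fix (hM : IsPModular 2 M) (hf : IsGeneralizedCharacter H f) (hη : IsIrrCharacter H η)
    (h : ¬ MemLocalIdeal M (uf 2 η f)) {σ : ℂ ≃+* ℂ} (hσ : Two σ) (hfix : Fix σ f) :
    ∃ ψ, IsIrrCharacter H ψ ∧ classInner f ψ ≠ 0 ∧ H0 M ψ ∧ Fix σ ψ := by
  classical
  have := isPrime_of_isPModular hM
  have := finite_irr (G := H)
  have := Fintype.ofFinite (IrrCharacter H)
  choose c hc using fun ψ : IrrCharacter H => VChar.gen_inner hf (gen_of_irr ψ.2)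
  have h1 : ∀ ψ : IrrCharacter H, MemLocalRing M (uf 2 η ψ) := fun ψ => boxUf.int hM ⟨η, hη⟩ (gen_of_irr ψ.2)
  obtain ⟨b, hb⟩ := hσ.exists_pow (n := Nat.card H) Nat.card_pos.ne'
  have h2 : act H σ ^ 2 ^ b = 1 := by
    rw [← map_pow]
    exact Equiv.ext fun ψ => Subtype.ext (funext (fix_of_roots Nat.card_pos.ne' (fun _ => pow_card_eq_one') hb (isIrr_isCharacter ψ.2)))
  obtain ⟨a, ha⟩ := OrbitSum.sum_eq_sum_fixed_add_smul (A := localRing M) (P := Subgroup.zpowers (act H σ)) (p := 2)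
    (fun ⟨_, k, hk⟩ => ⟨b, Subtype.ext (by
      subst hk
      exact ((zpow_natCast _ _).symm.trans (zpow_comm _ _ _)).trans (by rw [zpow_natCast, h2, one_zpow]; rfl))⟩)
    (fun ψ : IrrCharacter H => ⟨classInner f ψ * uf 2 η ψ, memLocalRing_mul (hc ψ ▸ memLocalRing_intCast _) (h1 ψ)⟩) fun u ψ => by
      obtain ⟨k, hk⟩ := (Submonoid.mem_powers_iff _ _).1 (mem_powers_iff_mem_zpowers.2 u.2)
      have h3 := GaloisIrr.classInner_map (σ ^ k) (χ := f) (isIrr_isCharacter ψ.2)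
      rw [show (fun g => (σ ^ k) (f g)) = f from funext (hfix.pow k), hc ψ, map_intCast, ← hc ψ] at h3
      refine Subtype.ext ?_
      rw [show u • ψ = act H (σ ^ k) ψ by rw [map_pow, hk]; rfl]
      exact congrArg₂ (· * ·) h3 (uf_act (hσ.pow k) η ψ)
  have h3 := congrArg (fun z : localRing M => (z : ℂ)) ha
  simp only [AddSubmonoidClass.coe_finsetSum, Subring.coe_add, nsmul_eq_mul, Subring.coe_mul, Subring.coe_natCast] at h3
  rw [uf_sum (VChar.gen_isClassFunction hf), h3] at h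
  obtain ⟨ψ, h4, h5⟩ := exists_not_memLocalIdeal_of_sum fun e => h (memLocalIdeal_add e (memLocalIdeal_mul_right (memLocalIdeal_p hM) a.2))
  have h6 : ¬ MemLocalIdeal M (uf 2 η ψ) := fun e => h5 (memLocalIdeal_mul_left (hc ψ ▸ memLocalRing_intCast _) e)
  have h7 : SameBlock M η ψ := by_contra fun e => h6 (boxUf.oth hM (ψ := ⟨η, hη⟩) e ▸ memLocalIdeal_zero)
  refine ⟨ψ, ψ.2, fun e => h5 (by rw [e, zero_mul]; exact memLocalIdeal_zero), (h0_iff hM ψ).1 ?_, fun g =>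
    congrFun (congrArg Subtype.val ((Finset.mem_filter.1 h4).2 ⟨_, Subgroup.mem_zpowers _⟩)) g⟩
  rw [← Basic.blockOf_eq_of_sameBlock h7]
  exact (boxUf.ht hM (ψ := ⟨η, hη⟩) h7).1 h6

/-- the truncation of an irreducible character -/
theorem sm_tc [hl : Fact l.Prime] (hr : r.Prime) (hne : l ≠ r) (hχ : IsIrrCharacter H χ) (h : RatR r χ) :
    Sm r ((l ^ (Nat.card H).factorization l) ^ 2) (((l ^ (Nat.card H).factorization l : ℕ) : ℂ) • tc l χ) := by
  refine ⟨(congrArg _ (funext fun x => ?_)).mp (S0961.result l ⟨χ, hχ⟩), ?_, fun b y h1 ⟨j, h2⟩ h3 k hk => ?_⟩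
  · by_cases e : l ∣ orderOf x
    · rw [if_pos e, Pi.smul_apply, tc_sing e, smul_zero]
    · rw [if_neg e, Pi.smul_apply, tc_reg e, smul_eq_mul]
  · refine le_of_mul_le_mul_left ?_ (Nat.cast_pos.2 (Nat.card_pos (α := H)))
    rw [← re_inner, mul_comm, ← mul_one (Nat.card H : ℝ), ← Complex.one_re, ← classInner_irr_self hχ, ← re_inner, Finset.mul_sum]
    refine Finset.sum_le_sum fun x _ => ?_
    rw [Pi.smul_apply, smul_eq_mul, norm_mul, mul_pow, Complex.norm_natCast, Nat.cast_pow _ 2]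
    by_cases e : l ∣ orderOf x
    · rw [tc_sing e, norm_zero, zero_pow two_ne_zero, mul_zero]
      positivity
    · rw [tc_reg e]
  · obtain ⟨i, -, h4⟩ := (Nat.dvd_prime_pow hr).1 (h2 ▸ orderOf_pow_dvd (x := b) k)
    simp only [Pi.smul_apply, tc, reg_mul hl.out h1 (not_dvd_of_r hl.out hr hne ⟨j, h2⟩),
      reg_mul hl.out (h1.pow_left k) (not_dvd_of_r hl.out hr hne ⟨i, h4⟩), h b y h1 ⟨j, h2⟩ h3 k hk]

theorem rs_tc' [Fact r.Prime] (hl : l.Prime) (hne : l ≠ r) (hB : Big H r n) (hn : n < r) {P : Subgroup H} (hP : IsPGroup r P)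
    {L : Type} [Group L] {ι : L →* H} (hι : Function.Injective ι) (hL : ι.range = Subgroup.centralizer (P : Set H)) (χ : H → ℂ) :
    rs r P (tc l χ) ∘ ι = tc l (rs r P χ ∘ ι) := funext fun y => by
  have hy : ι y ∈ Subgroup.centralizer (P : Set H) := hL ▸ ⟨y, rfl⟩
  obtain ⟨a, ha, e, -⟩ := hB.gel_spec hP hn hy
  simp only [Function.comp_apply, rs, tc, e, reg_mul hl (hy a ha) (not_dvd_of_r hl Fact.out hne (ord_of_mem hP ha)),
    orderOf_injective ι hι]

end Grp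

variable {p : ℕ} [Fact p.Prime] {k : Type} [Field k] [CharP k p] [IsAlgClosed k] {Y : Type} [Group Y] {N : Type}
  [Fintype N] [DecidableEq N] {ρ : Y →* GL N k} {F : MulAut Y} {G : Subgroup Y} {D : Datum p ρ F G} [Fintype ↥(GF F G)]

/-- **a fixed constituent of height zero** -/
theorem boxHz (h : BoxDeg D) : BoxHz D := by
  intro _ hq r _ P s _ hr hs χ ε η hχ hR hη hC M hM h0 σ hσ hfix
  have := isPrime_of_isPModular hM
  obtain ⟨f⟩ := nonempty_fr D
  have h1 := (h hq f r P s hr hs χ ε η hχ hR hη hC).2.2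
  have h2 := hr.bd_nb (m := 1) (i := 0) (pow_zero _).ge (Nat.zero_le _)
  have h3 := two_mul_lt h2
  have h4 := nb_pos D
  have h5 : 2 ≠ r := by omega
  have h6 := hC.2 _ ((sm_tc hr.prime h5 hχ hR).mono (Nat.pow_le_pow_left (pc_le_sz D) 2))
  rw [Sb.rs, rs_smul, classInner_smul_left, Pi.smul_comp, classInner_smul_left, mul_left_comm,
    rs_tc' Nat.prime_two h5 hr.big_GF (by omega) hs.grp s.ι_injective hs.range] at h6
  refine exists_fix hM (hr.big_GF.rs_gen hs.grp (sm_irr hχ hR) h2 s.ι_injective hs.range) hη (fun e => (h0_iff_uf hM hχ).1 h0 ?_) hσ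
    fun g => hfix _
  obtain ⟨c, hc⟩ : pc p (GF F s.K) ∣ pc p (GF F G) :=
    Nat.ordProj_dvd_ordProj_of_dvd Nat.card_pos.ne' (Subgroup.card_dvd_of_le s.le) p
  have h7 : uf 2 χ χ = c * ε * uf 2 η (rs r P χ ∘ s.ι) := by
    have h8 : (pc' p (GF F s.K) : ℂ) ≠ 0 := Nat.cast_ne_zero.2 fun e => not_dvd_pc' (p := p) (GF F s.K) (e ▸ dvd_zero p)
    rw [uf_eq, uf_eq, mul_left_cancel₀ (Nat.cast_ne_zero.2 (pow_pos two_pos _).ne') h6, ← pc_mul_pc' p, ← pc_mul_pc' p, hc,
      eq_div_of_mul_eq h8 h1]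
    have h9 : (pc' p (GF F G) : ℂ) ≠ 0 := Nat.cast_ne_zero.2 fun e => not_dvd_pc' (p := p) (GF F G) (e ▸ dvd_zero p)
    have h10 := irr_one_ne hη
    push_cast
    field_simp
  rw [h7]
  refine memLocalIdeal_mul_left (memLocalRing_mul (memLocalRing_natCast _) ?_) e
  rcases hC.1 with rfl | rfl
  exacts [memLocalRing_one, memLocalRing_neg memLocalRing_one]

end Cfsg.Agent.HZ.L.Hz
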